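import Mathlib
import Cfsg.Agent.H631.Fpf.TabW
import Cfsg.Agent.H631.Fpf.Par
import Cfsg.Agent.H35.ExcIdxTw

/-!
# `²E₆(q)`: the orders of two parabolic subgroups (for S4228, helper631)

* `card_P012` : `|P_{0,1,2}| = (1 + q + q² + q⁴ + q⁵ + q⁶)(1 + q + q³ + q⁴)(1 + q²) |B|`;
* `card_P123` : `|P_{1,2,3}| = (1 + q² + q⁴ + q⁵ + q⁷ + q⁹)(1 + q + q³ + q⁴)(1 + q²) |B|`.
-/

set_option autoImplicit false
set_option linter.unusedSectionVars false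

namespace Cfsg.Agent.H631.Fpf.CardTw

open CoxeterSystem Cfsg.Agent.ChevalleyStructure.CoxeterGeom Cfsg.Agent.Tits.Roots Cfsg.Agent.Tits.Core
  Cfsg.Agent.Tits.RootComb Cfsg.Agent.Nodes.Comb Cfsg.Agent.Nodes.Reps Cfsg.Agent.Nodes.BNOf
  Cfsg.Agent.Nodes.StabComb Cfsg.Agent.Nodes.Bruhat Cfsg.Agent.Nodes.LeviDec Cfsg.Agent.H35.Poin
  Cfsg.Agent.H35.PoinNum Cfsg.Agent.H35.ExcIdx
open Cfsg.Lie Cfsg.Agent.ChevalleyStructure Cfsg.Agent.ChevalleyStructure.TwE6BN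
open Cfsg.Agent.ChevalleyStructure.TwE6Basic (posE negE sg fix n exists_frob twisted_le_fix)

universe u

/-- the degrees -/
def dE : Fin 4 → ℕ := ![1, 1, 2, 2]

theorem fE_eq (q : ℕ) (i : Fin 4) : fE q i = q ^ dE i := by
  fin_cases i <;> simp [fE, dE]

theorem tab_0 : TabW Nodes.RGDTwE6.A dE [0, 1, 2] 0 [(![1, 0, 0, 0], 0), (![-1, 1, 0, 0], 1), (![0, -1, 1, 0], 2),
    (![0, 1, -1, 1], 4), (![1, -1, 0, 1], 5), (![-1, 0, 0, 1], 6)] := TabW.of_check (by decide +kernel)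

theorem tab_1 : TabW Nodes.RGDTwE6.A dE [1, 2] 1 [(![0, 1, 0, 0], 0), (![1, -1, 1, 0], 1), (![1, 1, -1, 1], 3),
    (![2, -1, 0, 1], 4)] := TabW.of_check (by decide +kernel)

theorem tab_2 : TabW Nodes.RGDTwE6.A dE [2] 2 [(![0, 0, 1, 0], 0), (![0, 2, -1, 1], 2)] :=
  TabW.of_check (by decide +kernel)

theorem tab_3 : TabW Nodes.RGDTwE6.A dE [1, 2, 3] 3 [(![0, 0, 0, 1], 0), (![0, 0, 1, -1], 2), (![0, 2, -1, 0], 4),
    (![2, -2, 1, 0], 5), (![2, 0, -1, 1], 7), (![2, 0, 0, -1], 9)] := TabW.of_check (by decide +kernel)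

variable {K : Type u} [Field K] [Fintype K] {q : ℕ} {φ : K →+* K} {p : ℕ} [Fact p.Prime] [CharP K p]
  (hφ : ∀ x, φ x = x ^ q) (hqq : ∀ t : K, (t ^ q) ^ q = t) (hq : 1 < q) (hK : Fintype.card K = q ^ 2)

include hφ hqq hq hK p

theorem card_P12 : Nat.card ↥(PJ CoxeterMatrix.F₄.toCoxeterSystem Nodes.RGDTwE6.isCartan (Nodes.RGDTwE6.T K q)
      (Nodes.RGDTwE6.X φ q) {j | j ∈ ([1, 2] : List (Fin 4))}) =
    ((1 + q + q ^ 3 + q ^ 4) * (1 + q ^ 2)) *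
      Nat.card ↥(RGD.B CoxeterMatrix.F₄.toCoxeterSystem Nodes.RGDTwE6.isCartan (Nodes.RGDTwE6.T K q)
        (Nodes.RGDTwE6.X φ q)) := by
  have hfin : Finite CoxeterMatrix.F₄.Group := Nodes.RGDFold.finite_W (hp := Nodes.RGDTwE6.hp)
    CoxeterMatrix.F₄.toCoxeterSystem Nodes.RGDTwE6.isCartan Nodes.RGDTwE6.foldData
  have R := Nodes.RGDTwE6.rgd CoxeterMatrix.F₄.toCoxeterSystem hφ hqq p
  have hc : ∀ i, Nat.card (Nodes.RGDTwE6.X φ q (sr i)) = q ^ dE i := fun i => by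
    rw [card_X_tw hφ hqq hq hK, fE_eq]
  have h1 := card_tabw_step R tab_2 (y := q) (fun i _ => hc i) (J' := []) (by decide) (card_nil R)
  have h2 := card_tabw_step R tab_1 (y := q) (fun i _ => hc i) (J' := [2]) (by decide) h1
  rw [h2]
  simp only [List.map_cons, List.map_nil, List.sum_cons, List.sum_nil]
  congr 1
  ring

theorem card_P012 : Nat.card ↥(PJ CoxeterMatrix.F₄.toCoxeterSystem Nodes.RGDTwE6.isCartan (Nodes.RGDTwE6.T K q)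
      (Nodes.RGDTwE6.X φ q) {j | j ∈ ([0, 1, 2] : List (Fin 4))}) =
    ((1 + q + q ^ 2 + q ^ 4 + q ^ 5 + q ^ 6) * ((1 + q + q ^ 3 + q ^ 4) * (1 + q ^ 2))) *
      Nat.card ↥(RGD.B CoxeterMatrix.F₄.toCoxeterSystem Nodes.RGDTwE6.isCartan (Nodes.RGDTwE6.T K q)
        (Nodes.RGDTwE6.X φ q)) := by
  have hfin : Finite CoxeterMatrix.F₄.Group := Nodes.RGDFold.finite_W (hp := Nodes.RGDTwE6.hp)
    CoxeterMatrix.F₄.toCoxeterSystem Nodes.RGDTwE6.isCartan Nodes.RGDTwE6.foldData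
  have R := Nodes.RGDTwE6.rgd CoxeterMatrix.F₄.toCoxeterSystem hφ hqq p
  have hc : ∀ i, Nat.card (Nodes.RGDTwE6.X φ q (sr i)) = q ^ dE i := fun i => by
    rw [card_X_tw hφ hqq hq hK, fE_eq]
  have h2 := card_tabw_step R tab_0 (y := q) (fun i _ => hc i) (J' := [1, 2]) (by decide) (card_P12 hφ hqq hq hK (p := p))
  rw [h2]
  simp only [List.map_cons, List.map_nil, List.sum_cons, List.sum_nil]
  congr 1
  ring

theorem card_P123 : Nat.card ↥(PJ CoxeterMatrix.F₄.toCoxeterSystem Nodes.RGDTwE6.isCartan (Nodes.RGDTwE6.T K q)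
      (Nodes.RGDTwE6.X φ q) {j | j ∈ ([1, 2, 3] : List (Fin 4))}) =
    ((1 + q ^ 2 + q ^ 4 + q ^ 5 + q ^ 7 + q ^ 9) * ((1 + q + q ^ 3 + q ^ 4) * (1 + q ^ 2))) *
      Nat.card ↥(RGD.B CoxeterMatrix.F₄.toCoxeterSystem Nodes.RGDTwE6.isCartan (Nodes.RGDTwE6.T K q)
        (Nodes.RGDTwE6.X φ q)) := by
  have hfin : Finite CoxeterMatrix.F₄.Group := Nodes.RGDFold.finite_W (hp := Nodes.RGDTwE6.hp)
    CoxeterMatrix.F₄.toCoxeterSystem Nodes.RGDTwE6.isCartan Nodes.RGDTwE6.foldData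
  have R := Nodes.RGDTwE6.rgd CoxeterMatrix.F₄.toCoxeterSystem hφ hqq p
  have hc : ∀ i, Nat.card (Nodes.RGDTwE6.X φ q (sr i)) = q ^ dE i := fun i => by
    rw [card_X_tw hφ hqq hq hK, fE_eq]
  have h2 := card_tabw_step R tab_3 (y := q) (fun i _ => hc i) (J' := [1, 2]) (by decide) (card_P12 hφ hqq hq hK (p := p))
  rw [h2]
  simp only [List.map_cons, List.map_nil, List.sum_cons, List.sum_nil]
  congr 1
  ring

/-- the order of the Borel subgroup -/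
theorem card_B (hpq : ∃ f, f ≠ 0 ∧ q = p ^ f) : ∃ a, Nat.gcd 3 (q + 1) *
    Nat.card ↥(RGD.B CoxeterMatrix.F₄.toCoxeterSystem Nodes.RGDTwE6.isCartan (Nodes.RGDTwE6.T K q)
        (Nodes.RGDTwE6.X φ q)) = p ^ a * ((q - 1) ^ 4 * (q + 1) ^ 2) := by
  obtain ⟨f, hf, hqf⟩ := hpq
  have hpp : IsPrimePow q := by rw [hqf]; exact (Fact.out : p.Prime).isPrimePow.pow hf
  have hfin : Finite CoxeterMatrix.F₄.Group := Nodes.RGDFold.finite_W (hp := Nodes.RGDTwE6.hp)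
    CoxeterMatrix.F₄.toCoxeterSystem Nodes.RGDTwE6.isCartan Nodes.RGDTwE6.foldData
  have R := Nodes.RGDTwE6.rgd CoxeterMatrix.F₄.toCoxeterSystem hφ hqq p
  have hT : Nat.gcd 3 (q + 1) * Nat.card ↥(Nodes.RGDTwE6.T K q) = (q - 1) ^ 4 * (q + 1) ^ 2 := by
    rw [← Cfsg.Agent.S1102.result hpp hK]
    congr 1
    exact Nat.card_congr (Subgroup.subgroupOfEquivOfLe inf_le_right).toEquiv
  obtain ⟨a, ha⟩ := (IsPGroup.iff_card (p := p)).1 R.isPGroup_Upos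
  refine ⟨a, ?_⟩
  rw [card_B' R, ha, ← hT]
  ring

end Cfsg.Agent.H631.Fpf.CardTw
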